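import Groth.Agent.H34.ZarConn.Local
import Groth.Agent.Lib.Snapper.Twist
import Groth.Agent.S0002
import Groth.Agent.Lib.GeomConn.Geometric
import Groth.Agent.Lib.ZeroCyc99.FlatLocalAffine
import Mathlib.FieldTheory.PrimitiveElement
import Mathlib.RingTheory.AdjoinRoot

/-!
# Zariski's connectedness theorem

If `f : X ⟶ Y` is proper, `Y` locally Noetherian and `O_Y = f_* O_X`, then `f` is geometrically
connected.
-/

set_option autoImplicit false
universe u

open CategoryTheory CategoryTheory.Limits AlgebraicGeometry Opposite TopologicalSpace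

namespace Groth.Agent.H34.ZarConn

open H1Fin (cst)

theorem finH1 : FinH1.{u} := fun R _ _ Z _ _ =>
  Groth.Agent.S0002.result R Z (Coh.structureModule Z)
    (Groth.Agent.Lib.Snapper.Twist.isCoh_structureModule Z) 1

/-- A finite separable extension of the residue field of a local ring is the residue field of a finite
free local algebra. -/
theorem exists_lift_residue (A : Type u) [CommRing A] [IsNoetherianRing A] [IsLocalRing A]
    (K : Type u) [Field K] (φ : A →+* K)
    (hker : RingHom.ker φ = IsLocalRing.maximalIdeal A)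
    (k : Type u) [Field k] [Algebra k K] [FiniteDimensional k K] [Algebra.IsSeparable k K]
    (r : A →+* k) (hr : Function.Surjective r) (hφ : (algebraMap k K).comp r = φ) :
    ∃ (A' : Type u) (_ : CommRing A') (_ : IsNoetherianRing A') (_ : IsLocalRing A')
      (α : A →+* A') (π : A' →+* K), α.Flat ∧ Function.Surjective π ∧ π.comp α = φ ∧
        RingHom.ker π = IsLocalRing.maximalIdeal A' := by
  classical
  obtain ⟨x, hx⟩ := Field.exists_primitive_element k K
  have hint : IsIntegral k x := Algebra.IsIntegral.isIntegral x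
  obtain ⟨g, hg, -, hgm⟩ := Polynomial.lifts_and_natDegree_eq_and_monic
    ((Polynomial.lifts_iff_coeff_lifts _).2 fun n => hr ((minpoly k x).coeff n)) (minpoly.monic hint)
  have hroot : g.eval₂ φ x = 0 := by
    rw [← hφ, ← Polynomial.eval₂_map, hg]
    exact minpoly.aeval k x
  let A' := AdjoinRoot g
  let π : A' →+* K := AdjoinRoot.lift φ x hroot
  have : Module.Finite A A' := hgm.finite_adjoinRoot
  have : Module.Free A A' := hgm.free_adjoinRoot
  have : IsNoetherianRing A' := isNoetherian_of_tower A inferInstance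
  have hπs : Function.Surjective π := fun z => by
    have hz : z ∈ Algebra.adjoin k ({x} : Set K) := by
      rw [← IntermediateField.adjoin_simple_toSubalgebra_of_isAlgebraic hint.isAlgebraic, hx]
      trivial
    rw [Algebra.adjoin_singleton_eq_range_aeval] at hz
    obtain ⟨p, rfl⟩ := hz
    obtain ⟨P, rfl⟩ := Polynomial.map_surjective r hr p
    refine ⟨AdjoinRoot.mk g P, ?_⟩
    rw [AdjoinRoot.lift_mk, ← hφ, ← Polynomial.eval₂_map]
    rfl
  have hle : ∀ M : Ideal A', M.IsMaximal → RingHom.ker π ≤ M := fun M hM z hz => by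
    have hM' : IsLocalRing.maximalIdeal A ≤ M.comap (algebraMap A A') :=
      (IsLocalRing.eq_maximalIdeal (Ideal.isMaximal_comap_of_isIntegral_of_isMaximal M)).ge
    obtain ⟨P, rfl⟩ := AdjoinRoot.mk_surjective z
    rw [RingHom.mem_ker, AdjoinRoot.lift_mk, ← hφ, ← Polynomial.eval₂_map] at hz
    obtain ⟨h, hh⟩ := minpoly.dvd k x (show Polynomial.aeval x (P.map r) = 0 from hz)
    obtain ⟨H, rfl⟩ := Polynomial.map_surjective r hr h
    have hcoef : ∀ n, (P - g * H).coeff n ∈ IsLocalRing.maximalIdeal A := fun n => by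
      rw [← hker, RingHom.mem_ker, ← hφ, RingHom.comp_apply, ← Polynomial.coeff_map,
        Polynomial.map_sub, Polynomial.map_mul, hg, hh, sub_self, Polynomial.coeff_zero, map_zero]
    have hmk : AdjoinRoot.mk g P = AdjoinRoot.mk g (P - g * H) := by
      rw [map_sub, map_mul, AdjoinRoot.mk_self, zero_mul, sub_zero]
    rw [hmk, (P - g * H).as_sum_range_C_mul_X_pow, map_sum]
    exact Ideal.sum_mem _ fun n _ => by
      rw [map_mul]
      exact Ideal.mul_mem_right _ _ (hM' (hcoef n))
  have hkmax : (RingHom.ker π).IsMaximal := RingHom.ker_isMaximal_of_surjective π hπs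
  have : IsLocalRing A' := .of_unique_max_ideal
    ⟨RingHom.ker π, hkmax, fun M hM => (hkmax.eq_of_le hM.ne_top (hle M hM)).symm⟩
  refine ⟨A', inferInstance, inferInstance, inferInstance, AdjoinRoot.of g, π, ?_, hπs, ?_,
    IsLocalRing.eq_maximalIdeal hkmax⟩
  · rw [← AdjoinRoot.algebraMap_eq, RingHom.flat_algebraMap_iff]
    exact inferInstance
  · exact RingHom.ext fun a => AdjoinRoot.lift_of hroot

variable {X Y : Scheme.{u}} (f : X ⟶ Y) [IsProper f]

/-- Connectedness of a fibre over a point of a flat local base change. -/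
theorem connectedSpace_of_flat [IsAffine Y] (hf : Function.Bijective f.appTop)
    (A' : Type u) [CommRing A'] [IsNoetherianRing A'] [IsLocalRing A']
    (g : Spec (CommRingCat.of A') ⟶ Y) [Flat g] (K : Type u) [Field K] (π : A' →+* K)
    (hπ : Function.Surjective π) (hker : RingHom.ker π = IsLocalRing.maximalIdeal A')
    {P : Scheme.{u}} (p₁ : P ⟶ X) (p₂ : P ⟶ Spec (CommRingCat.of K))
    (h : IsPullback p₁ p₂ f (Spec.map (CommRingCat.ofHom π) ≫ g)) : ConnectedSpace P := by
  let X' := pullback f g
  letI : X'.Over (Spec (CommRingCat.of A')) := ⟨pullback.snd f g⟩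
  have : IsProper (X' ↘ Spec (CommRingCat.of A')) := inferInstanceAs (IsProper (pullback.snd f g))
  have : CompactSpace X := (quasiCompact_iff_compactSpace f).mp inferInstance
  have : QuasiSeparatedSpace X := quasiSeparatedSpace_of_quasiSeparated f
  have hb : Function.Bijective (pullback.snd f g).appTop := by
    have H := Lib.ZeroCyc99.FlatLocalAffine.isPushout_appTop (IsPullback.of_hasPullback f g)
    have : IsIso f.appTop := (ConcreteCategory.isIso_iff_bijective _).2 hf
    have := H.isIso_inr_of_isIso
    exact ConcreteCategory.bijective_of_isIso _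
  have hcst : Function.Bijective (cst A' (⊤ : X'.Opens)) := by
    have e : (cst A' (⊤ : X'.Opens) : A' → Γ(X', ⊤)) =
        (pullback.snd f g).appTop ∘ (Scheme.ΓSpecIso (CommRingCat.of A')).inv := by
      funext a
      show (X'.presheaf.map (homOfLE le_top).op) _ = _
      rw [show (homOfLE (le_top : (⊤ : X'.Opens) ≤ ⊤)).op = 𝟙 _ from rfl, X'.presheaf.map_id]
      rfl
    rw [e]
    exact hb.comp (ConcreteCategory.bijective_of_isIso _)
  have hconn := Local.isConnected_F (A := A') (X := X') finH1 hcst
  let cl := Spec.map (CommRingCat.ofHom π)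
  have : IsClosedImmersion cl := IsClosedImmersion.spec_of_surjective _ hπ
  let e : P ⟶ X' := pullback.lift p₁ (p₂ ≫ cl) (by rw [h.w, Category.assoc])
  have he : IsPullback e p₂ (pullback.snd f g) cl :=
    IsPullback.of_right (by rw [pullback.lift_fst]; exact h) (pullback.lift_snd _ _ _)
      (IsPullback.of_hasPullback f g)
  have : IsClosedImmersion e := MorphismProperty.of_isPullback he.flip ‹_›
  have hrange : Set.range e = Local.F (X := X') (A := A') := by
    have hr : Set.range cl = {IsLocalRing.closedPoint A'} := by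
      rw [Set.range_unique]
      refine congrArg Singleton.singleton (PrimeSpectrum.ext ?_)
      let q : PrimeSpectrum K := (default : Spec (CommRingCat.of K))
      have hq : q.asIdeal = ⊥ := (Ideal.eq_bot_or_top _).resolve_right q.2.ne_top
      show Ideal.comap π q.asIdeal = IsLocalRing.maximalIdeal A'
      rw [hq, ← RingHom.ker_eq_comap_bot, hker]
    rw [← he.isoPullback_hom_fst, Scheme.Hom.comp_base, TopCat.coe_comp, Set.range_comp,
      Set.range_eq_univ.mpr (show Function.Surjective he.isoPullback.hom from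
      (Scheme.homeoOfIso he.isoPullback).surjective), Set.image_univ, Scheme.Pullback.range_fst, hr]
    rfl
  rw [connectedSpace_iff_univ]
  have himg : _root_.IsConnected (e '' Set.univ) := by rwa [Set.image_univ, hrange]
  exact ⟨Set.image_nonempty.1 himg.1,
    (e.isEmbedding.isInducing.isPreconnected_image).1 himg.2⟩

/-- Fibres over finite separable extensions of residue fields are connected. -/
theorem connectedSpace_of_finite_separable [IsLocallyNoetherian Y]
    (hf : ∀ U : Y.Opens, IsIso (f.app U)) (y : Y) (K : Type u) [Field K]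
    [Algebra (Y.residueField y) K] [FiniteDimensional (Y.residueField y) K]
    [Algebra.IsSeparable (Y.residueField y) K] {P : Scheme.{u}} (p₁ : P ⟶ X)
    (p₂ : P ⟶ Spec (CommRingCat.of K))
    (h : IsPullback p₁ p₂ f (Spec.map (CommRingCat.ofHom (algebraMap (Y.residueField y) K)) ≫
      Y.fromSpecResidueField y)) : ConnectedSpace P := by
  obtain ⟨W, hW, hyW, -⟩ := exists_isAffineOpen_mem_and_subset (show y ∈ (⊤ : Y.Opens) from trivial)
  have : IsAffine W.toScheme := hW
  let A := Y.presheaf.stalk y
  let r := (Y.residue y).hom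
  let φ : A →+* K := (algebraMap (Y.residueField y) K).comp r
  have hker : RingHom.ker φ = IsLocalRing.maximalIdeal A := by
    rw [RingHom.ker_comp_of_injective _ (algebraMap (Y.residueField y) K).injective]
    exact IsLocalRing.eq_maximalIdeal
      (RingHom.ker_isMaximal_of_surjective r (Y.residue_surjective y))
  obtain ⟨A', _, _, _, α, π, hα, hπ, hπα, hkπ⟩ :=
    exists_lift_residue A K φ hker (Y.residueField y) r (Y.residue_surjective y) rfl
  let ψ : Γ(Y, W) ⟶ CommRingCat.of A' := Y.presheaf.germ W y hyW ≫ CommRingCat.ofHom α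
  let g : Spec (CommRingCat.of A') ⟶ W.toScheme := Spec.map ψ ≫ hW.isoSpec.inv
  have : Flat (Spec.map ψ) := by
    refine (HasRingHomProperty.Spec_iff (P := @Flat)).2 ?_
    refine RingHom.Flat.comp ?_ hα
    letI := TopCat.Presheaf.algebra_section_stalk Y.presheaf ⟨y, hyW⟩
    have := hW.isLocalization_stalk ⟨y, hyW⟩
    have : Module.Flat Γ(Y, W) A := IsLocalization.flat A (hW.primeIdealOf ⟨y, hyW⟩).asIdeal.primeCompl
    exact RingHom.flat_algebraMap_iff.2 this
  have : Flat g := inferInstanceAs (Flat (Spec.map ψ ≫ hW.isoSpec.inv))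
  have hpt : Spec.map (CommRingCat.ofHom π) ≫ g ≫ W.ι =
      Spec.map (CommRingCat.ofHom (algebraMap (Y.residueField y) K)) ≫ Y.fromSpecResidueField y := by
    have e1 : g ≫ W.ι = Spec.map ψ ≫ hW.fromSpec := by
      rw [Category.assoc]; rfl
    rw [e1, ← Category.assoc, ← Spec.map_comp, Scheme.fromSpecResidueField, ← Category.assoc,
      ← Spec.map_comp, ← hW.fromSpecStalk_eq_fromSpecStalk hyW]
    show _ = Spec.map _ ≫ Spec.map _ ≫ hW.fromSpec
    rw [← Category.assoc, ← Spec.map_comp]
    congr 2
    rw [Category.assoc]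
    refine congrArg (Y.presheaf.germ W y hyW ≫ ·) ?_
    exact CommRingCat.hom_ext hπα
  rw [← hpt] at h
  have hsq := (isPullback_morphismRestrict f W).flip
  let p₁' : P ⟶ (f ⁻¹ᵁ W).toScheme := hsq.lift p₁ (p₂ ≫ Spec.map (CommRingCat.ofHom π) ≫ g)
    (by simp only [h.w, g, Category.assoc])
  have h' : IsPullback p₁' p₂ (f ∣_ W) (Spec.map (CommRingCat.ofHom π) ≫ g) :=
    IsPullback.of_right (by rw [hsq.lift_fst, Category.assoc]; exact h) (hsq.lift_snd _ _ _) hsq
  refine connectedSpace_of_flat (f ∣_ W) ?_ A' g K π hπ hkπ p₁' p₂ h'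
  have : IsIso (f.app (W.ι ''ᵁ ⊤)) := hf _
  rw [morphismRestrict_appTop]
  have hm : ∀ {U V : X.Opens} (e : U = V), IsIso (X.presheaf.map (eqToHom e).op) := fun e => inferInstance
  exact (ConcreteCategory.isIso_iff_bijective _).1 (@IsIso.comp_isIso _ _ _ _ _ _ _ this (hm _))

/-- Zariski's connectedness theorem. -/
theorem geometricallyConnected [IsLocallyNoetherian Y]
    (hf : ∀ U : Y.Opens, IsIso (f.app U)) : GeometricallyConnected f := by
  rw [GeometricallyConnected.iff_geometricallyConnected_fiber]
  intro y
  letI : (f.fiber y).Over (Spec (CommRingCat.of (Y.residueField y))) := ⟨f.fiberToSpecResidueField y⟩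
  refine Lib.GeomConn.Geometric.geometricallyConnected_of_finite_separable (Y.residueField y)
    (f.fiber y) fun K _ _ _ _ => ?_
  exact connectedSpace_of_finite_separable f hf y K _ _
    ((IsPullback.of_hasPullback _ _).paste_horiz (IsPullback.of_hasPullback f (Y.fromSpecResidueField y)))

end Groth.Agent.H34.ZarConn
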