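import Groth.Agent.Lib.Cech.Compare
import Groth.Agent.Lib.ZarCoh.Basic

/-!
# Degree one Cech cocycles as classes

For a short exact sequence of abelian sheaves with injective middle term and a map `d` on the global
sections of the third term which vanishes exactly on the image of the middle one, the class of a one
cocycle of the first term is injective modulo coboundaries.  The class is described as a relation,
which avoids all choices; the target is an arbitrary group, which keeps kernel checking cheap.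
-/

set_option autoImplicit false
universe u v

open CategoryTheory CategoryTheory.Limits TopologicalSpace Opposite Abelian

namespace Groth.Agent.H34.ZarConn.CechH1

open Groth.Agent.Lib.Cech.Complex Groth.Agent.Lib.Cech.Sections Groth.Agent.Lib.Cech.Acyclic

variable {X : TopCat.{u}} {ι : Type u} (U : ι → Opens X) (hcov : iSup U = ⊤)
  {S : ShortComplex (CohTop.Ab X)} {H : Type v} [AddCommGroup H]
  (d : S.X₃.obj.obj (op ⊤) →+ H)

/-- `y` is a class of the cocycle `z`. -/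
def Rep (z : Cochain U S.X₁.obj 1) (y : H) : Prop :=
  ∃ (b : Cochain U S.X₂.obj 0) (σ : S.X₃.obj.obj (op ⊤)),
    dC U _ 0 b = map S.f.hom 1 z ∧
    map S.g.hom 0 b = aug U _ (fun _ => le_top) σ ∧ y = d σ

variable {U} {d}

lemma Rep.zero : Rep U d 0 0 :=
  ⟨0, 0, (map_zero _).trans (map_zero _).symm, (map_zero _).trans (map_zero _).symm,
    (map_zero _).symm⟩

lemma Rep.add {z z' : Cochain U S.X₁.obj 1} {y y' : H} (h : Rep U d z y)
    (h' : Rep U d z' y') : Rep U d (z + z') (y + y') := by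
  obtain ⟨b, σ, h1, h2, rfl⟩ := h
  obtain ⟨b', σ', h1', h2', rfl⟩ := h'
  exact ⟨b + b', σ + σ', by rw [map_add, map_add, h1, h1'], by rw [map_add, map_add, h2, h2'],
    (map_add d σ σ').symm⟩

lemma Rep.neg {z : Cochain U S.X₁.obj 1} {y : H} (h : Rep U d z y) :
    Rep U d (-z) (-y) := by
  obtain ⟨b, σ, h1, h2, rfl⟩ := h
  exact ⟨-b, -σ, by rw [map_neg, map_neg, h1], by rw [map_neg, map_neg, h2],
    (map_neg d σ).symm⟩

variable (d)

include hcov in
lemma exists_rep [Injective S.X₂] (hS : S.ShortExact) (z : Cochain U S.X₁.obj 1)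
    (hz : dC U S.X₁.obj 1 z = 0) : ∃ y, Rep U d z y := by
  obtain ⟨b, hb⟩ := exactSucc_of_injective U S.X₂ 0 (map S.f.hom 1 z)
    (by rw [← map_dC, hz, map_zero])
  have h0 : dC U S.X₃.obj 0 (map S.g.hom 0 b) = 0 := by
    rw [← map_dC, hb]
    funext i
    exact app_zero (S := S) _ (z i)
  obtain ⟨σ, hσ⟩ := exists_aug_eq U S.X₃ hcov _ h0
  exact ⟨_, b, σ, hb, hσ.symm, rfl⟩

variable {d}

lemma exists_eq_dC_of_rep_zero (hS : S.ShortExact)
    (hd : ∀ σ, d σ = 0 → ∃ s, S.g.hom.app (op ⊤) s = σ) {z : Cochain U S.X₁.obj 1}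
    (h : Rep U d z 0) : ∃ w : Cochain U S.X₁.obj 0, dC U S.X₁.obj 0 w = z := by
  obtain ⟨b, σ, h1, h2, h3⟩ := h
  obtain ⟨s, hs⟩ := hd σ h3.symm
  let b' := b - aug U S.X₂.obj (fun _ => le_top) s
  have hb' : ∀ i, ∃ t, S.f.hom.app (op (inter U i)) t = b' i := fun i => by
    refine app_exact hS _ _ ?_
    have h4 := congr_fun h2 i
    rw [map_apply] at h4
    show S.g.hom.app _ (b i - res S.X₂.obj _ s) = 0
    rw [map_sub, h4, res_naturality, hs]
    exact sub_self _
  choose w hw using hb'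
  refine ⟨w, funext fun i => app_injective hS _ ?_⟩
  have h5 : map S.f.hom 0 w = b' := funext hw
  have h6 : map S.f.hom 1 (dC U S.X₁.obj 0 w) = map S.f.hom 1 z := by
    rw [map_dC, h5, map_sub, dC_aug, sub_zero, h1]
  exact congr_fun h6 i

/-- Classes are natural for endomorphisms of the sequence. -/
lemma Rep.endo (φ : S ⟶ S) (e : H → H) (he : ∀ σ, e (d σ) = d (φ.τ₃.hom.app (op ⊤) σ))
    {z : Cochain U S.X₁.obj 1} {y : H} (h : Rep U d z y) :
    Rep U d (Groth.Agent.Lib.Cech.Complex.map φ.τ₁.hom 1 z) (e y) := by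
  obtain ⟨b, σ, h1, h2, rfl⟩ := h
  refine ⟨Groth.Agent.Lib.Cech.Complex.map φ.τ₂.hom 0 b, φ.τ₃.hom.app (op ⊤) σ, ?_, ?_, he σ⟩
  · rw [← map_dC, h1]
    funext i
    exact ConcreteCategory.congr_hom (congrArg (fun m => m.hom.app (op (inter U i))) φ.comm₁₂.symm) (z i)
  · funext i
    refine (ConcreteCategory.congr_hom (congrArg (fun m => m.hom.app (op (inter U i))) φ.comm₂₃)
      (b i)).trans ?_
    show φ.τ₃.hom.app _ (Groth.Agent.Lib.Cech.Complex.map S.g.hom 0 b i) = _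
    rw [h2]
    exact res_naturality φ.τ₃.hom _ σ

variable {F : CohTop.Ab X}

/-- There is such a map to `H¹`, natural in endomorphisms. -/
theorem exists_seq (F : CohTop.Ab X) :
    ∃ (S : ShortComplex (CohTop.Ab X)) (_ : Injective S.X₂) (_ : S.ShortExact) (e : S.X₁ ≅ F)
      (d : S.X₃.obj.obj (op ⊤) →+ CohTop.H F 1),
      (∀ σ, d σ = 0 → ∃ s, S.g.hom.app (op ⊤) s = σ) ∧
      ∀ a : F ⟶ F, ∃ φ : S ⟶ S, φ.τ₁ = e.hom ≫ a ≫ e.inv ∧
        ∀ σ, Sheaf.H.map a 1 (d σ) = d (φ.τ₃.hom.app (op ⊤) σ) := by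
  let S := cokerSeq (Injective.ι F)
  have hS : S.ShortExact := cokerSeq_shortExact _
  have hI : Injective S.X₂ := inferInstanceAs (Injective (Injective.under F))
  let C := (constantSheaf (Opens.grothendieckTopology X) AddCommGrpCat.{u}).obj
    (AddCommGrpCat.of (ULift.{u} ℤ))
  have hT : IsTerminal (⊤ : Opens X) := isTerminalTop
  let d : S.X₃.obj.obj (op ⊤) →+ CohTop.H F 1 :=
    (hS.extClass.postcomp C (zero_add 1)).comp (Sheaf.H.equiv₀ S.X₃ hT).symm.toAddMonoidHom
  refine ⟨S, hI, hS, Iso.refl _, d, fun σ hσ => ?_, fun a => ?_⟩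
  · obtain ⟨x₂, hx₂⟩ := Ext.covariant_sequence_exact₃ C hS
      ((Sheaf.H.equiv₀ S.X₃ hT).symm σ) (zero_add 1) hσ
    exact ⟨Sheaf.H.equiv₀ S.X₂ hT x₂,
      (Sheaf.H.equiv₀_naturality (f := S.g) (hT := hT) x₂).trans
        ((congrArg (Sheaf.H.equiv₀ S.X₃ hT) ((Sheaf.H.map_apply S.g x₂).trans hx₂)).trans
          (AddEquiv.apply_symm_apply _ σ))⟩
  · let e₂ : S.X₂ ⟶ S.X₂ := Injective.factorThru (a ≫ S.f) S.f
    have he₂ : S.f ≫ e₂ = a ≫ S.f := Injective.comp_factorThru _ _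
    let e₃ : S.X₃ ⟶ S.X₃ := cokernel.desc _ (e₂ ≫ S.g) (by
      rw [← Category.assoc, he₂, Category.assoc, S.zero, comp_zero])
    have he₃ : S.g ≫ e₃ = e₂ ≫ S.g := cokernel.π_desc _ _ _
    let φ : S ⟶ S := ⟨a, e₂, e₃, he₂.symm, he₃.symm⟩
    refine ⟨φ, ((Category.id_comp _).trans (Category.comp_id _)).symm, fun σ => ?_⟩
    refine (Ext.comp_assoc_of_third_deg_zero ((Sheaf.H.equiv₀ S.X₃ hT).symm σ) hS.extClass
      (Ext.mk₀ a) (zero_add 1)).trans ?_
    refine (congrArg (fun t => ((Sheaf.H.equiv₀ S.X₃ hT).symm σ).comp t (zero_add 1))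
      (ShortComplex.ShortExact.extClass_naturality hS hS φ)).trans ?_
    refine (Ext.comp_assoc_of_second_deg_zero _ _ _ _).symm.trans ?_
    exact congrArg (fun t => t.comp hS.extClass (zero_add 1)) ((Sheaf.H.map_apply φ.τ₃ _).symm.trans
      (Sheaf.H.equiv₀_symm_naturality (f := φ.τ₃) (hT := hT) σ))

end Groth.Agent.H34.ZarConn.CechH1
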