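import Groth.Agent.H34.ZarConn.CechH1
import Groth.Prelude.Def_Coh

/-!
# Finite generation of Cech cocycles from finiteness of `H¹`

One cocycles of the structure sheaf for an open covering are, modulo coboundaries, a submodule of
`H¹`; so if the latter is finite over a Noetherian ring, every submodule of cocycles is finitely
generated modulo coboundaries.
-/

set_option autoImplicit false
universe u

open CategoryTheory AlgebraicGeometry TopologicalSpace Opposite

namespace Groth.Agent.H34.ZarConn.H1Fin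

open Groth.Agent.Lib.Cech.Complex

variable {Z : Scheme.{u}} {ι : Type u} (U : ι → Z.Opens)

/-- Restriction of functions. -/
noncomputable abbrev r' {V W : Z.Opens} (h : V ≤ W) : Γ(Z, W) →+* Γ(Z, V) :=
  (Z.presheaf.map (homOfLE h).op).hom

/-- Zero cochains of functions. -/
abbrev C0 : Type u := ∀ i, Γ(Z, U i)

/-- One cochains of functions. -/
abbrev C1 : Type u := ∀ i j, Γ(Z, U i ⊓ U j)

/-- The coboundary. -/
noncomputable def d0 (w : C0 U) : C1 U := fun i j => r' inf_le_right (w j) - r' inf_le_left (w i)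

/-- The cocycle condition. -/
def IsCocycle (z : C1 U) : Prop := ∀ i j k,
  r' (le_inf (inf_le_left.trans inf_le_right) inf_le_right : U i ⊓ U j ⊓ U k ≤ U j ⊓ U k) (z j k) -
  r' (le_inf (inf_le_left.trans inf_le_left) inf_le_right : U i ⊓ U j ⊓ U k ≤ U i ⊓ U k) (z i k) +
  r' (inf_le_left : U i ⊓ U j ⊓ U k ≤ U i ⊓ U j) (z i j) = 0

variable {U} (R : Type u) [CommRing R] [Z.Over (Spec (CommRingCat.of R))]

/-- Scalars as functions on an open. -/
noncomputable def cst (W : Z.Opens) : R →+* Γ(Z, W) :=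
  (Coh.resTop Z (op W)).comp (Coh.toGlobal (Z ↘ Spec (CommRingCat.of R)))

lemma r'_cst {V W : Z.Opens} (h : V ≤ W) (a : R) : r' h (cst R W a) = cst R V a :=
  Coh.resTop_comp (op W) (op V) (homOfLE h).op (Coh.toGlobal (Z ↘ Spec (CommRingCat.of R)) a)

variable (U)

/-- The presheaf of abelian groups of the structure sheaf. -/
noncomputable abbrev Fun : CohTop.Ab Z.toTopCat := Coh.toAb (Coh.structureModule Z)

/-- A one cochain of functions as a Cech cochain. -/
noncomputable def toCech (z : C1 U) : Cochain U (Fun (Z := Z)).obj 1 := fun i =>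
  r' (le_inf (inter_le U i 0) (inter_le U i 1)) (z (i 0) (i 1))

lemma res_eq {V W : Z.Opens} (h : V ≤ W) (x : Γ(Z, W)) :
    res (Fun (Z := Z)).obj h x = r' h x := rfl

lemma r'_r' {V W W' : Z.Opens} (h : V ≤ W) (h' : W ≤ W') (x : Γ(Z, W')) :
    r' h (r' h' x) = r' (h.trans h') x :=
  res_res (Fun (Z := Z)).obj h h' x

variable {U}

lemma dC_toCech {z : C1 U} (hz : IsCocycle U z) : dC U (Fun (Z := Z)).obj 1 (toCech U z) = 0 := by
  funext i
  rw [dC_apply]
  erw [Fin.sum_univ_three]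
  let W := inter U i
  have h := congrArg (r' (le_inf (le_inf (inter_le U i 0) (inter_le U i 1)) (inter_le U i 2)))
    (hz (i 0) (i 1) (i 2))
  rw [map_zero, map_add, map_sub, r'_r', r'_r', r'_r', sub_eq_add_neg] at h
  simp only [Fin.val_zero, Fin.val_one, Fin.val_two, pow_zero, pow_one, one_smul,
    Int.reduceNeg, neg_smul, even_two, Even.neg_pow, one_pow]
  refine Eq.trans ?_ h
  refine congrArg₂ (α := Γ(Z, W)) (β := Γ(Z, W)) (γ := Γ(Z, W)) (· + ·)
    (congrArg₂ (α := Γ(Z, W)) (β := Γ(Z, W)) (γ := Γ(Z, W)) (· + ·) ?_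
      (congrArg (α := Γ(Z, W)) (β := Γ(Z, W)) Neg.neg ?_)) ?_
  all_goals exact r'_r' _ _ _

lemma exists_d0 {z : C1 U} {B : Cochain U (Fun (Z := Z)).obj 0}
    (h : dC U (Fun (Z := Z)).obj 0 B = toCech U z) : ∃ w, d0 U w = z := by
  refine ⟨fun i => r' (le_iInf fun _ => le_rfl : U i ≤ inter U (fun _ : Fin 1 => i))
    (B fun _ => i), ?_⟩
  funext i j
  have hle : U i ⊓ U j ≤ inter U ![i, j] := le_iInf fun k => by fin_cases k <;> simp
  have h1 := congrArg (res (Fun (Z := Z)).obj hle) (congr_fun h ![i, j])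
  rw [dC_apply, Fin.sum_univ_two] at h1
  have e0 : (![i, j] ∘ (0 : Fin 2).succAbove) = fun _ => j := by funext k; fin_cases k; rfl
  have e1 : (![i, j] ∘ (1 : Fin 2).succAbove) = fun _ => i := by funext k; fin_cases k; rfl
  simp only [map_add, map_neg, res_res, Fin.val_zero, Fin.val_one, pow_zero, pow_one,
    one_smul, Int.reduceNeg, neg_smul] at h1
  rw [cochain_congr U (Fun (Z := Z)).obj B e0 _ (le_iInf fun _ => inf_le_right),
    cochain_congr U (Fun (Z := Z)).obj B e1 _ (le_iInf fun _ => inf_le_left)] at h1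
  have h2 : r' hle (toCech U z ![i, j]) = z i j := by
    show r' hle (r' _ (z i j)) = _
    rw [r'_r']
    exact res_self (Fun (Z := Z)).obj _ _
  have h1' := h1.trans h2
  refine Eq.trans ?_ h1'
  show r' _ (r' _ _) - r' _ (r' _ _) = _
  rw [r'_r', r'_r', sub_eq_add_neg]
  rfl

variable (U)

lemma toCech_smul (a : R) (z : C1 U) :
    Groth.Agent.Lib.Cech.Complex.map (Coh.smulAb (Coh.structureModule Z)
        (Coh.toGlobal (Z ↘ Spec (CommRingCat.of R)) a)).hom 1 (toCech U z) =
      toCech U (fun i j => cst R (U i ⊓ U j) a * z i j) := by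
  funext i
  show cst R _ a * r' _ (z (i 0) (i 1)) = r' _ (cst R _ a * z (i 0) (i 1))
  rw [map_mul, r'_cst]

variable {U}

lemma map_conj {F G : CohTop.Ab Z.toTopCat} (i : G ≅ F) (a : F ⟶ F) (z : Cochain U F.obj 1) :
    Groth.Agent.Lib.Cech.Complex.map (i.hom ≫ a ≫ i.inv).hom 1
        (Groth.Agent.Lib.Cech.Complex.map i.inv.hom 1 z) =
      Groth.Agent.Lib.Cech.Complex.map i.inv.hom 1 (Groth.Agent.Lib.Cech.Complex.map a.hom 1 z) :=
  funext fun j => ConcreteCategory.congr_hom (congrArg (fun m => m.hom.app (op (inter U j)))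
    (i.inv_hom_id_assoc (a ≫ i.inv))) (z j)

lemma map_hom_inv {F G : CohTop.Ab Z.toTopCat} (i : G ≅ F) (z : Cochain U F.obj 1) :
    Groth.Agent.Lib.Cech.Complex.map i.hom.hom 1
        (Groth.Agent.Lib.Cech.Complex.map i.inv.hom 1 z) = z :=
  funext fun j => ConcreteCategory.congr_hom (congrArg (fun m => m.hom.app (op (inter U j)))
    i.inv_hom_id) (z j)

/-- Any submodule of cocycles is finitely generated modulo coboundaries. -/
theorem exists_generators [IsNoetherianRing R] (hcov : iSup U = ⊤)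
    (hfin : Module.Finite R (Coh.HH Z (Coh.structureModule Z) 1))
    (M : Set (C1 U)) (hM : ∀ z ∈ M, IsCocycle U z) (h0 : (0 : C1 U) ∈ M)
    (hadd : ∀ z ∈ M, ∀ z' ∈ M, z + z' ∈ M)
    (hsmul : ∀ (a : R), ∀ z ∈ M, (fun i j => cst R (U i ⊓ U j) a * z i j) ∈ M) :
    ∃ (n : ℕ) (s : Fin n → C1 U), (∀ k, s k ∈ M) ∧ ∀ z ∈ M, ∃ (r : Fin n → R) (w : C0 U),
      ∀ i j, z i j = ∑ k, cst R (U i ⊓ U j) (r k) * s k i j + d0 U w i j := by
  classical
  obtain ⟨S, _, hS, i, d, hd, hnat⟩ := CechH1.exists_seq (Fun (Z := Z))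
  letI : AddCommGroup (Coh.HH Z (Coh.structureModule Z) 1) := inferInstance
  let d : S.X₃.obj.obj (op ⊤) →+ Coh.HH Z (Coh.structureModule Z) 1 := d
  let e := fun a : R => Coh.smulAb (Coh.structureModule Z)
    (Coh.toGlobal (Z ↘ Spec (CommRingCat.of R)) a)
  let tC : C1 U →+ Cochain U S.X₁.obj 1 :=
    (Groth.Agent.Lib.Cech.Complex.map i.inv.hom 1).comp
      (AddMonoidHom.mk' (toCech U) fun z z' => funext fun i => map_add _ _ _)
  have hstep : ∀ (a : R) (z : C1 U) (y : Coh.HH Z (Coh.structureModule Z) 1),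
      CechH1.Rep U d (tC z) y →
      CechH1.Rep U d (tC fun i j => cst R (U i ⊓ U j) a * z i j) (a • y) := fun a z y h => by
    obtain ⟨φ, hφ, hnat'⟩ := hnat (e a)
    have h' := h.endo φ (fun y => Sheaf.H.map (e a) 1 y) hnat'
    rw [hφ] at h'
    erw [map_conj i (e a) (toCech U z), toCech_smul U R a z] at h'
    exact h'
  let N : Submodule R (Coh.HH Z (Coh.structureModule Z) 1) :=
    { carrier := {y | ∃ z ∈ M, CechH1.Rep U d (tC z) y}
      add_mem' := by
        rintro y y' ⟨z, hz, h⟩ ⟨z', hz', h'⟩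
        exact ⟨z + z', hadd z hz z' hz', (map_add tC z z').symm ▸ h.add h'⟩
      zero_mem' := ⟨0, h0, (map_zero tC).symm ▸ CechH1.Rep.zero⟩
      smul_mem' := fun a y ⟨z, hz, h⟩ => ⟨_, hsmul a z hz, hstep a z y h⟩ }
  have : IsNoetherian R (Coh.HH Z (Coh.structureModule Z) 1) :=
    isNoetherian_of_isNoetherianRing_of_finite R _
  obtain ⟨n, y, hy⟩ := Submodule.fg_iff_exists_fin_generating_family.1 (IsNoetherian.noetherian N)
  have hmem : ∀ k, y k ∈ N := fun k => hy ▸ Submodule.subset_span ⟨k, rfl⟩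
  choose s hs hrep using hmem
  refine ⟨n, s, hs, fun z hz => ?_⟩
  obtain ⟨y', hy'⟩ := CechH1.exists_rep hcov d hS (tC z) (by
    show dC U S.X₁.obj 1 (Groth.Agent.Lib.Cech.Complex.map i.inv.hom 1 (toCech U z)) = 0
    rw [← map_dC, dC_toCech (hM z hz), map_zero])
  have hN : y' ∈ Submodule.span R (Set.range y) := hy.symm ▸ ⟨z, hz, hy'⟩
  obtain ⟨r, rfl⟩ := (Submodule.mem_span_range_iff_exists_fun R).1 hN
  have hsum : ∀ t : Finset (Fin n), CechH1.Rep U d
      (tC (∑ k ∈ t, fun i j => cst R (U i ⊓ U j) (r k) * s k i j)) (∑ k ∈ t, r k • y k) := by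
    intro t
    induction t using Finset.induction with
    | empty => simpa using CechH1.Rep.zero
    | insert k t hk ih =>
      rw [Finset.sum_insert hk, Finset.sum_insert hk, map_add]
      exact (hstep (r k) (s k) (y k) (hrep k)).add ih
  have h := hy'.add (hsum Finset.univ).neg
  rw [add_neg_cancel, ← sub_eq_add_neg, ← map_sub] at h
  obtain ⟨B, hB⟩ := CechH1.exists_eq_dC_of_rep_zero hS hd h
  obtain ⟨w, hw⟩ := exists_d0 (B := Groth.Agent.Lib.Cech.Complex.map i.hom.hom 0 B) (by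
    rw [← map_dC, hB]
    exact map_hom_inv i _)
  refine ⟨r, w, fun i j => ?_⟩
  rw [hw]
  simp only [Pi.sub_apply, Finset.sum_apply, add_sub_cancel]

end Groth.Agent.H34.ZarConn.H1Fin
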