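import Groth.Agent.H34.ZarConn.Strict

/-!
# Connectedness of the closed fibre

A proper scheme over a Noetherian local ring whose global functions are the ring has connected
closed fibre, given finiteness of `H¹` of the structure sheaf for proper schemes over Noetherian rings.
-/

set_option autoImplicit false
universe u

open CategoryTheory AlgebraicGeometry Opposite TopologicalSpace

namespace Groth.Agent.H34.ZarConn

/-- Finiteness of the first cohomology of functions on proper schemes over Noetherian rings. -/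
def FinH1 : Prop :=
  ∀ (R : Type u) [CommRing R] [IsNoetherianRing R] (Z : Scheme.{u})
    [Z.Over (Spec (CommRingCat.of R))] [IsProper (Z ↘ Spec (CommRingCat.of R))],
    Module.Finite R (Coh.HH Z (Coh.structureModule Z) 1)

namespace Local

open H1Fin (cst r' d0 C0)

variable {A : Type u} [CommRing A] [IsLocalRing A] {X : Scheme.{u}}
  [X.Over (Spec (CommRingCat.of A))]

/-- The closed fibre. -/
def F : Set X := (X ↘ Spec (CommRingCat.of A)) ⁻¹' {IsLocalRing.closedPoint A}

omit [IsLocalRing A] in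
lemma comap_eq {V : X.Opens} (hV : IsAffineOpen V) (p : PrimeSpectrum Γ(X, V)) :
    (X ↘ Spec (CommRingCat.of A)) (hV.fromSpec p) = (PrimeSpectrum.comap (cst A V) p : PrimeSpectrum A) := by
  rw [← Scheme.Hom.comp_apply, Sections.fromSpec_over hV]
  rfl

lemma mem_F_iff {V : X.Opens} (hV : IsAffineOpen V) (p : PrimeSpectrum Γ(X, V)) :
    hV.fromSpec p ∈ F (A := A) ↔ Ideal.map (cst A V) (IsLocalRing.maximalIdeal A) ≤ p.asIdeal := by
  show _ = IsLocalRing.closedPoint A ↔ _
  rw [comap_eq hV p, Ideal.map_le_iff_le_comap]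
  constructor
  · intro h
    exact (congrArg PrimeSpectrum.asIdeal h).ge
  · intro h
    exact PrimeSpectrum.ext (((IsLocalRing.maximalIdeal.isMaximal A).eq_of_le
      (p.2.comap (cst A V)).ne_top h).symm)

lemma map_pow_eq_top {V : X.Opens} (hV : IsAffineOpen V) (h : ∀ x ∈ V, x ∉ F (A := A)) (n : ℕ) :
    Ideal.map (cst A V) (IsLocalRing.maximalIdeal A ^ n) = ⊤ := by
  rw [Ideal.map_pow]
  have : Ideal.map (cst A V) (IsLocalRing.maximalIdeal A) = ⊤ := by
    by_contra hne
    obtain ⟨M, hM, hle⟩ := Ideal.exists_le_maximal _ hne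
    refine h (hV.fromSpec ⟨M, hM.isPrime⟩) ?_ ((mem_F_iff hV _).2 hle)
    have : hV.fromSpec ⟨M, hM.isPrime⟩ ∈ Set.range hV.fromSpec := ⟨_, rfl⟩
    rwa [hV.range_fromSpec] at this
  rw [this, Ideal.top_pow]

lemma evaluation_cst_eq_zero_iff {V : X.Opens} (hV : IsAffineOpen V) {x : X} (hx : x ∈ V)
    (hxF : x ∈ F (A := A)) (a : A) :
    X.evaluation V x hx (cst A V a) = 0 ↔ a ∈ IsLocalRing.maximalIdeal A := by
  obtain ⟨p, rfl⟩ : ∃ p, hV.fromSpec p = x := by
    have : x ∈ Set.range hV.fromSpec := by rwa [hV.range_fromSpec]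
    exact this
  rw [← not_iff_not, ← ne_eq, Scheme.evaluation_ne_zero_iff_mem_basicOpen]
  show hV.fromSpec p ∈ X.basicOpen _ ↔ _
  rw [show (hV.fromSpec p ∈ X.basicOpen (cst A V a)) ↔ p ∈ PrimeSpectrum.basicOpen (cst A V a) by
    rw [← hV.fromSpec_image_basicOpen]
    exact ⟨fun ⟨q, hq, e⟩ => hV.fromSpec.isOpenEmbedding.injective e ▸ hq, fun h => ⟨p, h, rfl⟩⟩]
  erw [PrimeSpectrum.mem_basicOpen]
  rw [not_iff_not]
  rw [show IsLocalRing.maximalIdeal A = (PrimeSpectrum.comap (cst A V) p).asIdeal from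
    congrArg PrimeSpectrum.asIdeal (((comap_eq hV p).symm.trans hxF).symm)]
  rfl

lemma evaluation_map_eq_zero {V : X.Opens} (hV : IsAffineOpen V) {x : X} (hx : x ∈ V)
    (hxF : x ∈ F (A := A)) {b : Γ(X, V)}
    (hb : b ∈ Ideal.map (cst A V) (IsLocalRing.maximalIdeal A)) :
    X.evaluation V x hx b = 0 := by
  have : Ideal.map (cst A V) (IsLocalRing.maximalIdeal A) ≤
      RingHom.ker (X.evaluation V x hx).hom := by
    rw [Ideal.map_le_iff_le_comap]
    exact fun a ha => (evaluation_cst_eq_zero_iff hV hx hxF a).2 ha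
  exact this hb

variable [IsNoetherianRing A] [IsProper (X ↘ Spec (CommRingCat.of A))]

theorem isPreconnected_F (hF : FinH1.{u})
    (hA : Function.Surjective (cst A (⊤ : X.Opens))) : _root_.IsPreconnected (F (X := X) (A := A)) := by
  classical
  rw [isPreconnected_closed_iff]
  intro t t' ht ht' hsub ⟨x₁, hx₁F, hx₁⟩ ⟨x₂, hx₂F, hx₂⟩
  by_contra hdis
  rw [Set.not_nonempty_iff_eq_empty] at hdis
  have hFc : IsClosed (F (X := X) (A := A)) :=
    (IsLocalRing.isClosed_singleton_closedPoint A).preimage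
      (X ↘ Spec (CommRingCat.of A)).continuous
  have key : ∀ x : X, ∃ V : X.Opens, IsAffineOpen V ∧ x ∈ V ∧
      ((∀ z ∈ V, z ∈ F (A := A) → z ∈ t ∧ z ∉ t') ∨ (∀ z ∈ V, z ∈ F (A := A) → z ∈ t' ∧ z ∉ t)) := by
    intro x
    have : (x ∈ (t' ∩ F (A := A))ᶜ) ∨ x ∈ (t ∩ F (A := A))ᶜ := by
      by_contra h
      push Not at h
      simp only [Set.mem_compl_iff, not_not] at h
      exact Set.eq_empty_iff_forall_notMem.1 hdis x ⟨h.1.2, h.2.1, h.1.1⟩
    rcases this with h | h
    · obtain ⟨_, ⟨V, hV, rfl⟩, hxV, hsubV⟩ :=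
        X.isBasis_affineOpens.exists_subset_of_mem_open h (ht'.inter hFc).isOpen_compl
      refine ⟨V, hV, hxV, Or.inl fun z hz hzF => ?_⟩
      have h1 : z ∉ t' := fun h' => hsubV hz ⟨h', hzF⟩
      exact ⟨(hsub hzF).resolve_right h1, h1⟩
    · obtain ⟨_, ⟨V, hV, rfl⟩, hxV, hsubV⟩ :=
        X.isBasis_affineOpens.exists_subset_of_mem_open h (ht.inter hFc).isOpen_compl
      refine ⟨V, hV, hxV, Or.inr fun z hz hzF => ?_⟩
      have h1 : z ∉ t := fun h' => hsubV hz ⟨h', hzF⟩
      exact ⟨(hsub hzF).resolve_left h1, h1⟩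
  choose W hW hxW hWF using key
  have : CompactSpace X :=
    (quasiCompact_iff_compactSpace (X ↘ Spec (CommRingCat.of A))).mp inferInstance
  obtain ⟨s, hs⟩ := isCompact_univ.elim_finite_subcover (fun x => (W x : Set X))
    (fun x => (W x).2) fun x _ => Set.mem_iUnion.2 ⟨x, hxW x⟩
  let U : ↥s → X.Opens := fun i => W i.1
  have hcov : iSup U = ⊤ := by
    refine eq_top_iff.2 fun x _ => ?_
    obtain ⟨i, hi, hxi⟩ := Set.mem_iUnion₂.1 (hs (Set.mem_univ x))
    exact Opens.mem_iSup.2 ⟨⟨i, hi⟩, hxi⟩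
  have : X.IsSeparated := ⟨by
    rw [← Limits.terminal.comp_from (X ↘ Spec (CommRingCat.of A))]; infer_instance⟩
  let e : C0 U := fun i => if ∀ z ∈ U i, z ∈ F (A := A) → z ∈ t ∧ z ∉ t' then 1 else 0
  let I := IsLocalRing.maximalIdeal A
  obtain ⟨D, hD⟩ := Strict.exists_strict I U (fun i => hW i.1) hcov (hF _ _)
  obtain ⟨w', hw', hw'I⟩ := hD 1 e fun i j => by
    by_cases hi : ∀ z ∈ U i, z ∈ F (A := A) → z ∈ t ∧ z ∉ t'
    · by_cases hj : ∀ z ∈ U j, z ∈ F (A := A) → z ∈ t ∧ z ∉ t'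
      · simp [d0, e, if_pos hi, if_pos hj]
      · rw [map_pow_eq_top ((hW i.1).inf (hW j.1)) fun z hz hzF =>
          (((hWF j.1).resolve_left hj) z hz.2 hzF).2 (hi z hz.1 hzF).1]
        trivial
    · by_cases hj : ∀ z ∈ U j, z ∈ F (A := A) → z ∈ t ∧ z ∉ t'
      · rw [map_pow_eq_top ((hW i.1).inf (hW j.1)) fun z hz hzF =>
          (((hWF i.1).resolve_left hi) z hz.1 hzF).2 (hj z hz.2 hzF).1]
        trivial
      · simp [d0, e, if_neg hi, if_neg hj]
  obtain ⟨y, hy, -⟩ := TopCat.Sheaf.existsUnique_gluing' X.sheaf U ⊤ (fun _ => homOfLE le_top) hcov.ge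
    (fun i => e i - w' i) fun i j => by
      have h := congr_fun (congr_fun hw' i) j
      simp only [d0] at h
      show r' inf_le_left (e i - w' i) = r' inf_le_right (e j - w' j)
      rw [map_sub, map_sub]
      linear_combination h
  obtain ⟨a, rfl⟩ := hA y
  have hval : ∀ i, cst A (U i) a = e i - w' i := fun i => by
    rw [← H1Fin.r'_cst A (le_top : U i ≤ ⊤) a]
    exact hy i
  have hev : ∀ i (x : X) (hx : x ∈ U i), x ∈ F (A := A) →
      X.evaluation (U i) x hx (cst A (U i) a) = X.evaluation (U i) x hx (e i) := fun i x hx hxF => by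
    rw [hval, map_sub, evaluation_map_eq_zero (V := U i) (b := w' i) (hW i.1) hx hxF (by simpa using hw'I i), sub_zero]
  obtain ⟨i, hi⟩ := Opens.mem_iSup.1 (hcov.ge (show x₁ ∈ (⊤ : X.Opens) from trivial))
  obtain ⟨j, hj⟩ := Opens.mem_iSup.1 (hcov.ge (show x₂ ∈ (⊤ : X.Opens) from trivial))
  have hi1 : e i = 1 := if_pos ((hWF i.1).resolve_right fun h => (h x₁ hi hx₁F).2 hx₁)
  have hj0 : e j = 0 := if_neg fun h => (h x₂ hj hx₂F).2 hx₂
  have hna : a ∉ IsLocalRing.maximalIdeal A := fun ha => by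
    have := hev i x₁ hi hx₁F
    rw [(evaluation_cst_eq_zero_iff (hW i.1) hi hx₁F a).2 ha, hi1, map_one] at this
    exact zero_ne_one this
  refine hna ((evaluation_cst_eq_zero_iff (hW j.1) hj hx₂F a).1 ?_)
  rw [hev j x₂ hj hx₂F, hj0, map_zero]

/-- The closed fibre is connected. -/
theorem isConnected_F (hF : FinH1.{u}) (hA : Function.Bijective (cst A (⊤ : X.Opens))) :
    _root_.IsConnected (F (X := X) (A := A)) := by
  refine ⟨?_, isPreconnected_F hF hA.2⟩
  by_contra hne
  rw [Set.not_nonempty_iff_eq_empty] at hne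
  have hempty : IsEmpty X := ⟨fun x => by
    have hcl := (X ↘ Spec (CommRingCat.of A)).isClosedMap _ isClosed_univ
    have : IsLocalRing.closedPoint A ∈ (X ↘ Spec (CommRingCat.of A)) '' Set.univ :=
      (IsLocalRing.specializes_closedPoint _).mem_closed hcl ⟨x, trivial, rfl⟩
    obtain ⟨z, -, hz⟩ := this
    exact Set.eq_empty_iff_forall_notMem.1 hne z hz⟩
  have : Subsingleton Γ(X, ⊤) := by
    rw [show (⊤ : X.Opens) = ⊥ from Opens.ext (Set.eq_empty_of_isEmpty _)]
    infer_instance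
  exact not_subsingleton A (hA.1.subsingleton)

end Local

end Groth.Agent.H34.ZarConn
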