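import Groth.Agent.H34.ZarConn.Sections
import Mathlib.RingTheory.ReesAlgebra
import Mathlib.RingTheory.PolynomialAlgebra
import Mathlib.Algebra.Category.Ring.Constructions
import Mathlib.AlgebraicGeometry.IdealSheaf.Subscheme

/-!
# The Rees scheme of an ideal of the base

For an `A`-scheme `X` and an ideal `I` of `A`, `Rees I X` is the scheme theoretic image of
`X ×_A A[t]` in `X ×_A A[It]`.  Its functions over the preimage of an affine open `V` of `X` are the
polynomials over `Γ(X, V)` whose coefficient of `tⁿ` lies in `Iⁿ`.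
-/

set_option autoImplicit false
universe u

open CategoryTheory CategoryTheory.Limits AlgebraicGeometry Opposite Polynomial TensorProduct

namespace Groth.Agent.H34.ZarConn.Rees

open H1Fin (cst r')
open Sections

variable {A : Type u} [CommRing A] (I : Ideal A) (X : Scheme.{u}) [X.Over (Spec (CommRingCat.of A))]

/-- The Rees algebra as an object of `CommRingCat`. -/
noncomputable abbrev RA : CommRingCat.{u} := CommRingCat.of (reesAlgebra I)

/-- Structure map of the Rees algebra. -/
noncomputable abbrev iR : CommRingCat.of A ⟶ RA I :=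
  CommRingCat.ofHom (algebraMap A (reesAlgebra I))

/-- Structure map of the polynomial ring. -/
noncomputable abbrev iP : CommRingCat.of A ⟶ CommRingCat.of A[X] :=
  CommRingCat.ofHom (algebraMap A A[X])

/-- The inclusion of the Rees algebra. -/
noncomputable abbrev jv : RA I ⟶ CommRingCat.of A[X] := CommRingCat.ofHom (reesAlgebra I).val.toRingHom

/-- The base change to the Rees algebra. -/
noncomputable abbrev XR : Scheme.{u} := pullback (X ↘ Spec (CommRingCat.of A)) (Spec.map (iR I))

/-- The base change to polynomials. -/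
noncomputable abbrev XP : Scheme.{u} :=
  pullback (X ↘ Spec (CommRingCat.of A)) (Spec.map (iP (A := A)))

/-- The comparison map. -/
noncomputable def q : XP (A := A) X ⟶ XR I X :=
  pullback.lift (pullback.fst _ _) (pullback.snd _ _ ≫ Spec.map (jv I)) (by
    rw [pullback.condition, Category.assoc, ← Spec.map_comp]
    rfl)

lemma q_fst : q I X ≫ pullback.fst _ _ = pullback.fst _ _ := pullback.lift_fst _ _ _

lemma q_snd : q I X ≫ pullback.snd _ _ = pullback.snd _ _ ≫ Spec.map (jv I) := pullback.lift_snd _ _ _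

instance isAffineHom_fst {C : CommRingCat.{u}} (φ : CommRingCat.of A ⟶ C) :
    IsAffineHom (pullback.fst (X ↘ Spec (CommRingCat.of A)) (Spec.map φ)) :=
  MorphismProperty.pullback_fst _ _ inferInstance

instance : IsAffineHom (q I X) := by
  have : IsAffineHom (q I X ≫ pullback.fst _ _) := by rw [q_fst]; infer_instance
  exact .of_comp (q I X) (pullback.fst _ _)

/-- The Rees scheme. -/
noncomputable def Z : Scheme.{u} := (q I X).image

/-- Its embedding. -/
noncomputable def ι : Z I X ⟶ XR I X := (q I X).imageι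

instance : IsClosedImmersion (ι I X) := inferInstanceAs (IsClosedImmersion (q I X).imageι)

noncomputable instance over : (Z I X).Over (Spec (CommRingCat.of (reesAlgebra I))) :=
  ⟨ι I X ≫ pullback.snd _ _⟩

/-- Its projection to `X`. -/
noncomputable def π : Z I X ⟶ X := ι I X ≫ pullback.fst _ _

instance [IsProper (X ↘ Spec (CommRingCat.of A))] :
    IsProper (Z I X ↘ Spec (CommRingCat.of (reesAlgebra I))) :=
  inferInstanceAs (IsProper (ι I X ≫ pullback.snd _ _))

instance : IsAffineHom (π I X) := inferInstanceAs (IsAffineHom (ι I X ≫ pullback.fst _ _))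

variable {X}

/-- Extension of scalars on polynomials. -/
noncomputable abbrev mp (V : X.Opens) : CommRingCat.of A[X] ⟶ CommRingCat.of Γ(X, V)[X] :=
  CommRingCat.ofHom (Polynomial.mapRingHom (cst A V))

/-- Constants. -/
noncomputable abbrev cC (V : X.Opens) : Γ(X, V) ⟶ CommRingCat.of Γ(X, V)[X] :=
  CommRingCat.ofHom Polynomial.C

attribute [local instance] Polynomial.algebra in
lemma isPushout_poly (V : X.Opens) :
    IsPushout (CommRingCat.ofHom (cst A V)) iP (cC V) (mp (A := A) V) := by
  letI := (cst A V).toAlgebra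
  have : IsScalarTower A A[X] Γ(X, V)[X] := .of_algebraMap_eq fun a => by
    simp [RingHom.algebraMap_toAlgebra]
  have h := CommRingCat.isPushout_of_isPushout A Γ(X, V) A[X] Γ(X, V)[X]
  exact h

lemma isPushout_rees (V : X.Opens) :
    letI := (cst A V).toAlgebra
    IsPushout (CommRingCat.ofHom (cst A V)) (iR I)
      (CommRingCat.ofHom (algebraMap Γ(X, V) (Γ(X, V) ⊗[A] reesAlgebra I)))
      (CommRingCat.ofHom
        (Algebra.TensorProduct.includeRight (R := A) (A := Γ(X, V)) (B := reesAlgebra I)).toRingHom) :=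
  letI := (cst A V).toAlgebra
  CommRingCat.isPushout_tensorProduct A Γ(X, V) (reesAlgebra I)

variable {V : X.Opens} (hV : IsAffineOpen V)

/-- The chart of the polynomial base change. -/
noncomputable def hP : Spec (CommRingCat.of Γ(X, V)[X]) ⟶ XP (A := A) X :=
  chart hV iP (cC V) (mp V) (isPushout_poly V)

/-- The chart of the Rees scheme. -/
noncomputable def g : Spec (CommRingCat.of Γ(X, V)[X]) ⟶ Z I X := hP hV ≫ (q I X).toImage

lemma g_ι : g I hV ≫ ι I X = hP hV ≫ q I X := by
  rw [g, Category.assoc]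
  exact congrArg (hP hV ≫ ·) (q I X).toImage_imageι

lemma g_π : g I hV ≫ π I X = Spec.map (cC V) ≫ hV.fromSpec := by
  rw [π, ← Category.assoc, g_ι, Category.assoc, q_fst]
  exact chart_fst _ _ _ _ _

lemma g_over : g I hV ≫ (Z I X ↘ Spec (CommRingCat.of (reesAlgebra I))) =
    Spec.map (jv I ≫ mp V) := by
  show g I hV ≫ ι I X ≫ pullback.snd _ _ = _
  rw [← Category.assoc, g_ι, Category.assoc, q_snd, ← Category.assoc, Spec.map_comp]
  exact congrArg (· ≫ Spec.map (jv I)) (chart_snd _ _ _ _ _)

lemma le_preimage_g : ⊤ ≤ g I hV ⁻¹ᵁ (π I X ⁻¹ᵁ V) := fun x _ => by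
  show (g I hV ≫ π I X) x ∈ V
  rw [g_π, Scheme.Hom.comp_apply]
  exact hV.fromSpec_preimage_self.ge trivial

/-- Functions on the Rees scheme as polynomials. -/
noncomputable def ψ : Γ(Z I X, π I X ⁻¹ᵁ V) →+* Γ(X, V)[X] :=
  (ev (g I hV) _ (le_preimage_g I hV)).hom

lemma ψ_app (b : Γ(X, V)) : ψ I hV ((π I X).app V b) = C b := by
  have h1 := ev_comp (g I hV) (π I X) V (le_preimage_g I hV)
  rw [ev_congr (g_π I hV), ev_specMap _ _ _ (le_of_eq hV.fromSpec_preimage_self.symm),
    ev_fromSpec, Category.id_comp] at h1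
  exact (congr($h1 b)).symm

lemma ψ_cst (r : reesAlgebra I) :
    ψ I hV (cst (reesAlgebra I) (π I X ⁻¹ᵁ V) r) = Polynomial.map (cst A V) r.1 :=
  ev_cst (g I hV) (jv I ≫ mp V) (g_over I hV) _ _ r

lemma ψ_injective : Function.Injective (ψ I hV) := by
  let W : (XR I X).Opens := pullback.fst (X ↘ Spec (CommRingCat.of A)) (Spec.map (iR I)) ⁻¹ᵁ V
  have hW : IsAffineOpen W := hV.preimage _
  have h1 : (q I X).toImage ⁻¹ᵁ (π I X ⁻¹ᵁ V) =
      pullback.fst (X ↘ Spec (CommRingCat.of A)) (Spec.map iP) ⁻¹ᵁ V := by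
    show ((q I X).toImage ≫ ι I X ≫ pullback.fst _ _) ⁻¹ᵁ V = _
    rw [← Category.assoc, show (q I X).toImage ≫ ι I X = q I X from (q I X).toImage_imageι, q_fst]
  have : IsOpenImmersion (hP (A := A) hV) :=
    isOpenImmersion_chart hV iP (cC V) (mp V) (isPushout_poly V)
  have h3 : IsIso (ev (hP hV) ((q I X).toImage ⁻¹ᵁ (π I X ⁻¹ᵁ V)) (le_preimage_g I hV)) :=
    ev_isIso _ (h1.trans (opensRange_chart hV iP (cC V) (mp V) (isPushout_poly V)).symm) _
  have h2 := ev_comp (hP hV) (q I X).toImage (π I X ⁻¹ᵁ V) (le_preimage_g I hV)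
  intro a b hab
  apply (q I X).toImage_app_injective (U := ⟨W, hW⟩)
  apply (ConcreteCategory.bijective_of_isIso
    (ev (hP hV) ((q I X).toImage ⁻¹ᵁ (π I X ⁻¹ᵁ V)) (le_preimage_g I hV))).1
  exact (congr($h2 a)).symm.trans (hab.trans congr($h2 b))

lemma mem_map_pow_iff {n : ℕ} (a : Γ(X, V)) :
    a ∈ Ideal.map (cst A V) I ^ n ↔ a ∈ Ideal.map (cst A V) (I ^ n) := by
  rw [Ideal.map_pow]

/-- Coefficients lie in the powers of the ideal. -/
lemma coeff_ψ_mem (z : Γ(Z I X, π I X ⁻¹ᵁ V)) (n : ℕ) :
    (ψ I hV z).coeff n ∈ Ideal.map (cst A V) (I ^ n) := by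
  letI := (cst A V).toAlgebra
  let W : (XR I X).Opens := pullback.fst (X ↘ Spec (CommRingCat.of A)) (Spec.map (iR I)) ⁻¹ᵁ V
  obtain ⟨x, rfl⟩ : ∃ x, (ι I X).app W x = z :=
    (q I X).ker.subschemeι_app_surjective ⟨W, hV.preimage _⟩ z
  let sq := isPushout_rees (X := X) I V
  let hR := chart hV (iR I) _ _ sq
  let μ := sq.desc (cC V) (jv I ≫ mp V) (by
    rw [← Category.assoc]; exact (isPushout_poly V).w)
  have hgR : g I hV ≫ ι I X = Spec.map μ ≫ hR := by
    refine pullback.hom_ext ?_ ?_
    · rw [g_ι, Category.assoc, q_fst, Category.assoc, chart_fst, ← Category.assoc, ← Spec.map_comp,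
        sq.inl_desc]
      exact chart_fst _ _ _ _ _
    · rw [Category.assoc, Category.assoc, chart_snd, ← Spec.map_comp, sq.inr_desc]
      exact g_over I hV
  have h2 := ev_comp (g I hV) (ι I X) W (le_preimage_g I hV)
  rw [ev_congr hgR, ev_specMap _ _ _ (le_preimage_chart hV (iR I) _ _ sq)] at h2
  rw [show ψ I hV ((ι I X).app W x) = μ (ev hR W (le_preimage_chart hV (iR I) _ _ sq) x) from
    (congr($h2 x)).symm]
  generalize ev hR W (le_preimage_chart hV (iR I) _ _ sq) x = t
  induction t using TensorProduct.induction_on with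
  | zero => simp
  | tmul b r =>
    have e : b ⊗ₜ[A] r = algebraMap Γ(X, V) (Γ(X, V) ⊗[A] reesAlgebra I) b *
        Algebra.TensorProduct.includeRight (R := A) (A := Γ(X, V)) (B := reesAlgebra I) r := by simp
    rw [e, map_mul]
    have hl : CommRingCat.ofHom (algebraMap Γ(X, V) (Γ(X, V) ⊗[A] reesAlgebra I)) ≫ μ = cC V :=
      sq.inl_desc _ _ _
    have hr : CommRingCat.ofHom (Algebra.TensorProduct.includeRight (R := A) (A := Γ(X, V))
        (B := reesAlgebra I)).toRingHom ≫ μ = jv I ≫ mp V := sq.inr_desc _ _ _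
    rw [show μ (algebraMap Γ(X, V) (Γ(X, V) ⊗[A] reesAlgebra I) b) = C b from congr($hl b),
      show μ (Algebra.TensorProduct.includeRight (R := A) (A := Γ(X, V)) (B := reesAlgebra I) r) =
        Polynomial.map (cst A V) r.1 from congr($hr r)]
    rw [coeff_C_mul, coeff_map]
    exact Ideal.mul_mem_left _ _ (Ideal.mem_map_of_mem _ ((mem_reesAlgebra_iff _ _).1 r.2 n))
  | add s t hs ht =>
    rw [map_add, coeff_add]
    exact add_mem hs ht

/-- Every homogeneous element occurs. -/
lemma exists_ψ_eq_monomial {n : ℕ} {a : Γ(X, V)} (ha : a ∈ Ideal.map (cst A V) (I ^ n)) :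
    ∃ z, ψ I hV z = monomial n a := by
  induction ha using Submodule.span_induction with
  | mem x hx =>
    obtain ⟨a0, h0, rfl⟩ := hx
    exact ⟨cst (reesAlgebra I) _ ⟨monomial n a0, reesAlgebra.monomial_mem.2 h0⟩, by
      rw [ψ_cst, Polynomial.map_monomial]⟩
  | zero => exact ⟨0, by simp⟩
  | add x y _ _ hx hy =>
    obtain ⟨z, hz⟩ := hx
    obtain ⟨z', hz'⟩ := hy
    exact ⟨z + z', by simp [hz, hz']⟩
  | smul c x _ hx =>
    obtain ⟨z, hz⟩ := hx
    exact ⟨(π I X).app V c * z, by rw [map_mul, ψ_app, hz, C_mul_monomial, smul_eq_mul]⟩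

/-- Compatibility with restriction. -/
lemma ψ_res {V' : X.Opens} (hV' : IsAffineOpen V') (h : V' ≤ V) (z : Γ(Z I X, π I X ⁻¹ᵁ V)) :
    ψ I hV' (r' ((π I X).preimage_mono h) z) = Polynomial.map (r' h) (ψ I hV z) := by
  let m : CommRingCat.of Γ(X, V)[X] ⟶ CommRingCat.of Γ(X, V')[X] :=
    CommRingCat.ofHom (Polynomial.mapRingHom (r' h))
  have hg : g I hV' = Spec.map m ≫ g I hV := by
    have e : hP (A := A) hV' = Spec.map m ≫ hP hV := by
      refine pullback.hom_ext ?_ ?_
      · rw [Category.assoc]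
        refine (chart_fst _ _ _ _ _).trans ?_
        refine Eq.trans ?_ (congrArg (Spec.map m ≫ ·) (chart_fst _ _ _ _ _)).symm
        rw [← Category.assoc, ← Spec.map_comp]
        have e1 : cC V ≫ m = X.presheaf.map (homOfLE h).op ≫ cC V' :=
          CommRingCat.hom_ext (RingHom.ext fun b => by simp [m])
        rw [e1, Spec.map_comp, Category.assoc, hV.map_fromSpec hV']
      · rw [Category.assoc]
        refine (chart_snd _ _ _ _ _).trans ?_
        refine Eq.trans ?_ (congrArg (Spec.map m ≫ ·) (chart_snd _ _ _ _ _)).symm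
        rw [← Spec.map_comp]
        congr 1
        refine CommRingCat.hom_ext (RingHom.ext fun p => ?_)
        show Polynomial.map (cst A V') p = Polynomial.map (r' h) (Polynomial.map (cst A V) p)
        rw [Polynomial.map_map]
        congr 1
        exact RingHom.ext fun a => (H1Fin.r'_cst A h a).symm
    rw [g, g, e, Category.assoc]
  have h1 := ev_res (g I hV') ((π I X).preimage_mono h) (le_preimage_g I hV')
  have h2 := ev_congr hg (π I X ⁻¹ᵁ V) ((le_preimage_g I hV').trans fun _ hx => h hx)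
  rw [ev_specMap _ _ _ (le_preimage_g I hV)] at h2
  exact (congr($h1 z)).trans congr($h2 z)

end Groth.Agent.H34.ZarConn.Rees
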