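import Groth.Agent.H34.ZarConn.H1Fin
import Mathlib.AlgebraicGeometry.Pullbacks
import Mathlib.AlgebraicGeometry.AffineScheme

/-!
# Sections of base changes over affine opens, evaluated on rings

`ev m V` evaluates sections over `V` along a morphism `m` from the spectrum of a ring landing in `V`.
For an affine open `V` of an `A`-scheme and a pushout `D` of `Γ(X, V)` and `C` over `A`, evaluation
identifies the sections of `X ×_A C` over the preimage of `V` with `D`.
-/

set_option autoImplicit false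
universe u

open CategoryTheory CategoryTheory.Limits AlgebraicGeometry Opposite

namespace Groth.Agent.H34.ZarConn.Sections

open H1Fin (cst)

variable {Y Y' : Scheme.{u}} {D D' : CommRingCat.{u}}

/-- Evaluation of sections along a morphism from an affine scheme. -/
noncomputable def ev (m : Spec D ⟶ Y) (V : Y.Opens) (h : ⊤ ≤ m ⁻¹ᵁ V) : Γ(Y, V) ⟶ D :=
  m.appLE V ⊤ h ≫ (Scheme.ΓSpecIso D).hom

lemma ev_comp (m : Spec D ⟶ Y) (k : Y ⟶ Y') (V : Y'.Opens) (h : ⊤ ≤ (m ≫ k) ⁻¹ᵁ V) :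
    ev (m ≫ k) V h = k.app V ≫ ev m (k ⁻¹ᵁ V) h := by
  rw [ev, ev, ← Category.assoc, Scheme.Hom.app_eq_appLE, Scheme.Hom.appLE_comp_appLE]

lemma ev_res (m : Spec D ⟶ Y) {V W : Y.Opens} (hVW : W ≤ V) (h : ⊤ ≤ m ⁻¹ᵁ W) :
    Y.presheaf.map (homOfLE hVW).op ≫ ev m W h = ev m V (h.trans fun _ hx => hVW hx) := by
  rw [ev, ev, ← Category.assoc, Scheme.Hom.map_appLE]

lemma ev_congr {m m' : Spec D ⟶ Y} (e : m = m') (V : Y.Opens) (h : ⊤ ≤ m ⁻¹ᵁ V) :
    ev m V h = ev m' V (e ▸ h) := by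
  subst e; rfl

lemma ev_specMap (b : D ⟶ D') (m : Spec D ⟶ Y) (V : Y.Opens) (h : ⊤ ≤ m ⁻¹ᵁ V) :
    ev (Spec.map b ≫ m) V (fun _ _ => h trivial) = ev m V h ≫ b := by
  rw [ev, ev, Category.assoc, ← Scheme.ΓSpecIso_naturality, ← Category.assoc, Category.assoc]
  rw [← Category.assoc]
  congr 1

lemma ev_fromSpec {V : Y.Opens} (hV : IsAffineOpen V) (h : ⊤ ≤ hV.fromSpec ⁻¹ᵁ V) :
    ev hV.fromSpec V h = 𝟙 _ := by
  rw [ev, Scheme.Hom.appLE, hV.fromSpec_app_self, Category.assoc, Category.assoc,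
    ← Functor.map_comp_assoc]
  rw [show ((eqToHom hV.fromSpec_preimage_self).op ≫ (homOfLE h).op) = 𝟙 _ from rfl,
    CategoryTheory.Functor.map_id, Category.id_comp, Iso.inv_hom_id]

lemma ev_isIso (m : Spec D ⟶ Y) [IsOpenImmersion m] {V : Y.Opens} (hV : V = m.opensRange)
    (h : ⊤ ≤ m ⁻¹ᵁ V) : IsIso (ev m V h) := by
  subst hV
  have := m.isIso_app m.opensRange le_rfl
  rw [ev, Scheme.Hom.appLE]
  have : IsIso (homOfLE h : (⊤ : (Spec D).Opens) ⟶ m ⁻¹ᵁ m.opensRange) :=
    ⟨homOfLE le_top, rfl, rfl⟩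
  infer_instance

/-- The structure map on global functions. -/
noncomputable def glob (A : Type u) [CommRing A] (Y : Scheme.{u})
    [Y.Over (Spec (CommRingCat.of A))] : CommRingCat.of A ⟶ Γ(Y, ⊤) :=
  (Scheme.ΓSpecIso (CommRingCat.of A)).inv ≫ (Y ↘ Spec (CommRingCat.of A)).appTop

lemma cst_eq {A : Type u} [CommRing A] [Y.Over (Spec (CommRingCat.of A))] (V : Y.Opens) :
    CommRingCat.ofHom (cst A V) = glob A Y ≫ Y.presheaf.map (homOfLE le_top).op := rfl

lemma specMap_toSpec {A : Type u} [CommRing A] [Y.Over (Spec (CommRingCat.of A))] :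
    Y.toSpecΓ ≫ Spec.map (glob A Y) = Y ↘ Spec (CommRingCat.of A) := by
  rw [glob, Spec.map_comp, ← Category.assoc, ← Scheme.toSpecΓ_naturality, Category.assoc,
    ← SpecMap_ΓSpecIso_hom, ← Spec.map_comp]
  simp

lemma ev_cst {A : Type u} [CommRing A] [Y.Over (Spec (CommRingCat.of A))] (m : Spec D ⟶ Y)
    (φ : CommRingCat.of A ⟶ D) (hm : m ≫ (Y ↘ Spec (CommRingCat.of A)) = Spec.map φ)
    (V : Y.Opens) (h : ⊤ ≤ m ⁻¹ᵁ V) (a : A) : ev m V h (cst A V a) = φ a := by
  have h1 : CommRingCat.ofHom (cst A V) ≫ ev m V h = glob A Y ≫ ev m ⊤ le_top := by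
    rw [cst_eq, Category.assoc, ev_res m le_top h]
  have h2 : ev (Spec.map φ) ⊤ le_top = (Scheme.ΓSpecIso (CommRingCat.of A)).hom ≫ φ := by
    rw [ev, ← Scheme.ΓSpecIso_naturality]
    congr 1
  have h3 := ev_comp m (Y ↘ Spec (CommRingCat.of A)) ⊤ le_top
  rw [ev_congr hm, h2] at h3
  have h4 : CommRingCat.ofHom (cst A V) ≫ ev m V h = φ := by
    rw [h1, glob, Category.assoc]
    refine (congrArg ((Scheme.ΓSpecIso (CommRingCat.of A)).inv ≫ ·) h3.symm).trans ?_
    rw [Iso.inv_hom_id_assoc]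
  exact congr($h4 a)

section BaseChange

variable {A : Type u} [CommRing A] {X : Scheme.{u}} [X.Over (Spec (CommRingCat.of A))] {V : X.Opens}
  (hV : IsAffineOpen V) {C : CommRingCat.{u}} (φ : CommRingCat.of A ⟶ C)
  (b : Γ(X, V) ⟶ D) (c : C ⟶ D)

lemma fromSpec_over :
    hV.fromSpec ≫ (X ↘ Spec (CommRingCat.of A)) = Spec.map (CommRingCat.ofHom (cst A V)) := by
  rw [← specMap_toSpec (Y := X) (A := A), ← Category.assoc, hV.fromSpec_toSpecΓ, ← Spec.map_comp,
    cst_eq]

variable (sq : IsPushout (CommRingCat.ofHom (cst A V)) φ b c)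

/-- The comparison morphism into the base change. -/
noncomputable def chart : Spec D ⟶ pullback (X ↘ Spec (CommRingCat.of A)) (Spec.map φ) :=
  pullback.lift (Spec.map b ≫ hV.fromSpec) (Spec.map c) (by
    rw [Category.assoc, fromSpec_over, ← Spec.map_comp, ← Spec.map_comp, sq.w])

lemma chart_fst : chart hV φ b c sq ≫ pullback.fst _ _ = Spec.map b ≫ hV.fromSpec :=
  pullback.lift_fst _ _ _

lemma chart_snd : chart hV φ b c sq ≫ pullback.snd _ _ = Spec.map c := pullback.lift_snd _ _ _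

lemma isPullback_chart : IsPullback (chart hV φ b c sq) (Spec.map b)
    (pullback.fst (X ↘ Spec (CommRingCat.of A)) (Spec.map φ)) hV.fromSpec := by
  refine IsPullback.of_right ?_ (chart_fst hV φ b c sq)
    (IsPullback.of_hasPullback (X ↘ Spec (CommRingCat.of A)) (Spec.map φ)).flip
  rw [chart_snd, fromSpec_over]
  exact (isPullback_SpecMap_of_isPushout _ _ _ _ sq).flip

instance isOpenImmersion_chart : IsOpenImmersion (chart hV φ b c sq) :=
  MorphismProperty.of_isPullback (P := @IsOpenImmersion) (isPullback_chart hV φ b c sq).flip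
    hV.isOpenImmersion_fromSpec

lemma opensRange_chart : (chart hV φ b c sq).opensRange =
    pullback.fst (X ↘ Spec (CommRingCat.of A)) (Spec.map φ) ⁻¹ᵁ V := by
  ext1
  have e := isPullback_chart hV φ b c sq
  rw [Scheme.Hom.coe_opensRange, TopologicalSpace.Opens.map_coe, ← hV.range_fromSpec,
    ← e.isoPullback_hom_fst, Scheme.Hom.comp_base, TopCat.coe_comp, Set.range_comp,
    Set.range_eq_univ.mpr (show Function.Surjective e.isoPullback.hom from
      (Scheme.homeoOfIso e.isoPullback).surjective), Set.image_univ,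
    Scheme.Pullback.range_fst]

lemma le_preimage_chart : ⊤ ≤ chart hV φ b c sq ⁻¹ᵁ
    (pullback.fst (X ↘ Spec (CommRingCat.of A)) (Spec.map φ) ⁻¹ᵁ V) := fun x _ => by
  rw [← opensRange_chart hV φ b c sq]
  exact ⟨x, rfl⟩

lemma bijective_ev_chart :
    Function.Bijective (ev (chart hV φ b c sq) _ (le_preimage_chart hV φ b c sq)) := by
  have := ev_isIso (chart hV φ b c sq) (opensRange_chart hV φ b c sq).symm
    (le_preimage_chart hV φ b c sq)
  exact ConcreteCategory.bijective_of_isIso _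

lemma ev_chart_fst (x : Γ(X, V)) :
    ev (chart hV φ b c sq) _ (le_preimage_chart hV φ b c sq)
      ((pullback.fst (X ↘ Spec (CommRingCat.of A)) (Spec.map φ)).app V x) = b x := by
  have h1 := ev_comp (chart hV φ b c sq) (pullback.fst _ _) V (le_preimage_chart hV φ b c sq)
  rw [ev_congr (chart_fst hV φ b c sq), ev_specMap _ _ _ (le_of_eq hV.fromSpec_preimage_self.symm),
    ev_fromSpec, Category.id_comp] at h1
  exact (congr($h1 x)).symm

end BaseChange

end Groth.Agent.H34.ZarConn.Sections
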