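import Groth.Agent.H34.ZarConn.Rees

/-!
# Strictness of the Cech differential for an adic filtration

If `H¹` of the Rees scheme is finite over the Rees algebra, then a Cech coboundary of functions which
is divisible by a high power of `I` is the coboundary of a cochain divisible by a slightly smaller
power.  This is the part of the theorem on formal functions used for connectedness of fibres.
-/

set_option autoImplicit false
set_option maxHeartbeats 400000
universe u

open CategoryTheory AlgebraicGeometry Opposite Polynomial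

namespace Groth.Agent.H34.ZarConn.Strict

open H1Fin (cst r' d0 C0 C1 IsCocycle exists_generators r'_cst r'_r')
open Rees

variable {A : Type u} [CommRing A] (I : Ideal A) {X : Scheme.{u}} [X.Over (Spec (CommRingCat.of A))]

instance isNoetherianRing_rees [IsNoetherianRing A] : IsNoetherianRing (reesAlgebra I) :=
  haveI : Algebra.FiniteType A (reesAlgebra I) :=
    ⟨(Subalgebra.fg_top _).mpr (reesAlgebra.fg (IsNoetherian.noetherian I))⟩
  Algebra.FiniteType.isNoetherianRing A _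

theorem coeff_mul_of_natDegree_le {B : Type*} [CommRing B] (p s : B[X]) {D N : ℕ}
    (hs : s.natDegree ≤ D) (hN : D ≤ N) :
    (p * s).coeff N = ∑ b ∈ Finset.range (D + 1), p.coeff (N - b) * s.coeff b := by
  rw [mul_comm p s, coeff_mul,
    Finset.Nat.sum_antidiagonal_eq_sum_range_succ_mk]
  rw [← Finset.sum_subset (Finset.range_mono (Nat.succ_le_succ hN)) fun b _ hb => ?_]
  · exact Finset.sum_congr rfl fun b _ => mul_comm _ _
  · rw [coeff_eq_zero_of_natDegree_lt (p := s) (lt_of_le_of_lt hs (by simpa using hb)), zero_mul]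

variable {ι : Type u} (U : ι → X.Opens)

/-- The covering of the Rees scheme. -/
noncomputable abbrev V : ι → (Z I X).Opens := fun i => π I X ⁻¹ᵁ U i

variable {U} (h2 : ∀ i j, IsAffineOpen (U i ⊓ U j))

/-- Polynomial functions on a double intersection. -/
noncomputable def ψ₂ (i j : ι) : Γ(Z I X, V I U i ⊓ V I U j) →+* Γ(X, U i ⊓ U j)[X] :=
  ψ I (h2 i j)

lemma ψ₂_res {i j : ι} {W : X.Opens} (hW : IsAffineOpen W) (h : U i ⊓ U j ≤ W)
    (z : Γ(Z I X, π I X ⁻¹ᵁ W)) :
    ψ₂ I h2 i j (r' (V := V I U i ⊓ V I U j) ((π I X).preimage_mono h) z) =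
      Polynomial.map (r' h) (ψ I hW z) :=
  ψ_res I hW (h2 i j) h z

lemma ψ₂_d0 (hU : ∀ i, IsAffineOpen (U i)) (ω : C0 (V I U)) (i j : ι) :
    ψ₂ I h2 i j (d0 (V I U) ω i j) =
      Polynomial.map (r' inf_le_right) (ψ I (hU j) (ω j)) -
        Polynomial.map (r' inf_le_left) (ψ I (hU i) (ω i)) :=
  (map_sub (ψ₂ I h2 i j) _ _).trans
    (congrArg₂ (· - ·) (ψ₂_res I h2 (hU j) inf_le_right (ω j))
      (ψ₂_res I h2 (hU i) inf_le_left (ω i)))

lemma ψ₂_cst (a : reesAlgebra I) (i j : ι) :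
    ψ₂ I h2 i j (cst (reesAlgebra I) (V I U i ⊓ V I U j) a) =
      Polynomial.map (cst A (U i ⊓ U j)) a.1 := ψ_cst I (h2 i j) a

/-- The cocycles all of whose coefficients are coboundaries. -/
def M : Set (C1 (V I U)) := {ζ | IsCocycle (V I U) ζ ∧
    ∀ n, ∃ w : C0 U, ∀ i j, (ψ₂ I h2 i j (ζ i j)).coeff n = d0 U w i j}

lemma M_zero : (0 : C1 (V I U)) ∈ M I h2 :=
  ⟨fun i j k => by simp, fun n => ⟨0, fun i j => by simp [d0]⟩⟩

lemma M_add (ζ : C1 (V I U)) (hζ : ζ ∈ M I h2) (ζ' : C1 (V I U)) (hζ' : ζ' ∈ M I h2) :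
    ζ + ζ' ∈ M I h2 := by
  refine ⟨fun i j k => ?_, fun n => ?_⟩
  · have h := congrArg₂ (· + ·) (hζ.1 i j k) (hζ'.1 i j k)
    simp only [add_zero] at h
    simp only [Pi.add_apply, map_add]
    rw [← h]
    abel
  · obtain ⟨w, hw⟩ := hζ.2 n
    obtain ⟨w', hw'⟩ := hζ'.2 n
    refine ⟨w + w', fun i j => ?_⟩
    simp only [Pi.add_apply, map_add, coeff_add, hw, hw']
    simp only [d0, Pi.add_apply, map_add]
    abel

lemma M_smul (a : reesAlgebra I) (ζ : C1 (V I U)) (hζ : ζ ∈ M I h2) :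
    (fun i j => cst (reesAlgebra I) (V I U i ⊓ V I U j) a * ζ i j) ∈ M I h2 := by
  refine ⟨fun i j k => ?_, fun n => ?_⟩
  · simp only [map_mul, r'_cst]
    rw [← mul_sub, ← mul_add, hζ.1 i j k, mul_zero]
  · choose w hw using hζ.2
    refine ⟨fun i => ∑ x ∈ Finset.antidiagonal n, cst A (U i) (a.1.coeff x.1) * w x.2 i,
      fun i j => ?_⟩
    rw [map_mul, ψ₂_cst, coeff_mul]
    simp only [d0, map_sum, map_mul, r'_cst, ← Finset.sum_sub_distrib, ← mul_sub, coeff_map]
    exact Finset.sum_congr rfl fun x _ => by rw [hw]; rfl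

lemma mem_M_of_monomial (h3 : ∀ i j k, IsAffineOpen (U i ⊓ U j ⊓ U k)) (N : ℕ) (w : C0 U)
    (ζ : C1 (V I U)) (hζ : ∀ i j, ψ₂ I h2 i j (ζ i j) = monomial N (d0 U w i j)) :
    ζ ∈ M I h2 := by
  refine ⟨fun i j k => ?_, fun n => ?_⟩
  · have e : ∀ (a b : ι) (h : U i ⊓ U j ⊓ U k ≤ U a ⊓ U b),
        ψ I (h3 i j k) (r' ((π I X).preimage_mono h) (ζ a b)) =
          monomial N (r' h (d0 U w a b)) := fun a b h =>
      (ψ_res I (h2 a b) (h3 i j k) h (ζ a b)).trans
        ((congrArg (Polynomial.map (r' h)) (hζ a b)).trans (Polynomial.map_monomial _))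
    apply ψ_injective I (h3 i j k)
    refine Eq.trans ?_ (map_zero (ψ I (h3 i j k))).symm
    refine (map_add (ψ I (h3 i j k)) _ _).trans ?_
    refine (congrArg₂ (· + ·) ((map_sub (ψ I (h3 i j k)) _ _).trans (congrArg₂ (· - ·)
      (e j k (le_inf (inf_le_left.trans inf_le_right) inf_le_right))
      (e i k (le_inf (inf_le_left.trans inf_le_left) inf_le_right)))) (e i j inf_le_left)).trans ?_
    rw [← map_sub, ← map_add]
    refine (congrArg (monomial N) ?_).trans (map_zero _)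
    simp only [d0, map_sub, r'_r']
    abel
  · by_cases h : N = n
    · exact ⟨w, fun i j => by rw [hζ, coeff_monomial, if_pos h]⟩
    · exact ⟨0, fun i j => by rw [hζ, coeff_monomial, if_neg h]; simp [d0]⟩

lemma exists_bound_fn {α β γ : Type*} [Finite α] [Finite β] [Finite γ] (f : α → β → γ → ℕ) :
    ∃ D, ∀ a b c, f a b c ≤ D := by
  obtain ⟨D, hD⟩ := Finite.exists_le fun x : α × β × γ => f x.1 x.2.1 x.2.2
  exact ⟨D, fun a b c => hD (a, b, c)⟩

lemma exists_degree_bound [Finite ι] {n : ℕ} (s : Fin n → C1 (V I U)) :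
    ∃ D, ∀ k i j, (ψ₂ I h2 i j (s k i j)).natDegree ≤ D :=
  exists_bound_fn fun k i j => (ψ₂ I h2 i j (s k i j)).natDegree

theorem exists_strict [IsNoetherianRing A] [IsProper (X ↘ Spec (CommRingCat.of A))]
    [Finite ι] (U : ι → X.Opens) (hU : ∀ i, IsAffineOpen (U i)) (hcov : iSup U = ⊤)
    (hfin : Module.Finite (reesAlgebra I) (Coh.HH (Z I X) (Coh.structureModule (Z I X)) 1)) :
    ∃ D : ℕ, ∀ (m : ℕ) (w : C0 U),
      (∀ i j, d0 U w i j ∈ Ideal.map (cst A (U i ⊓ U j)) (I ^ (m + D))) →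
      ∃ w' : C0 U, d0 U w' = d0 U w ∧ ∀ i, w' i ∈ Ideal.map (cst A (U i)) (I ^ m) := by
  classical
  have : X.IsSeparated := ⟨by
    rw [← Limits.terminal.comp_from (X ↘ Spec (CommRingCat.of A))]; infer_instance⟩
  have h2 : ∀ i j, IsAffineOpen (U i ⊓ U j) := fun i j => (hU i).inf (hU j)
  have h3 : ∀ i j k, IsAffineOpen (U i ⊓ U j ⊓ U k) := fun i j k => (h2 i j).inf (hU k)
  have hV : iSup (V I U) = ⊤ := by
    rw [← Scheme.Hom.preimage_iSup (π I X) U, hcov]
    rfl
  obtain ⟨n, s, hs, hgen⟩ := exists_generators (reesAlgebra I) hV hfin (M I h2) (fun ζ h => h.1)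
    (M_zero I h2) (M_add I h2) (M_smul I h2)
  let := Fintype.ofFinite ι
  obtain ⟨D, hD⟩ := exists_degree_bound I h2 s
  choose sw hsw using fun k => (hs k).2
  refine ⟨D, fun m w hw => ?_⟩
  have hex : ∀ i j, ∃ z : Γ(Z I X, V I U i ⊓ V I U j),
      ψ₂ I h2 i j z = monomial (m + D) (d0 U w i j) := fun i j =>
    exists_ψ_eq_monomial (n := m + D) (a := d0 U w i j) I (h2 i j) (hw i j)
  choose ζ hζ using hex
  obtain ⟨r, ω, hr⟩ := hgen ζ (mem_M_of_monomial I h2 h3 (m + D) w ζ hζ)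
  let w' : C0 U := fun i => ∑ k, ∑ b ∈ Finset.range (D + 1),
    cst A (U i) ((r k).1.coeff (m + D - b)) * sw k b i + (ψ I (hU i) (ω i)).coeff (m + D)
  refine ⟨w', ?_, fun i => ?_⟩
  · funext i j
    have e : ∀ k, (ψ₂ I h2 i j (cst (reesAlgebra I) (V I U i ⊓ V I U j) (r k) * s k i j)).coeff (m + D) =
        ∑ b ∈ Finset.range (D + 1), cst A (U i ⊓ U j) ((r k).1.coeff (m + D - b)) *
          d0 U (sw k b) i j := fun k => by
      rw [map_mul, ψ₂_cst, coeff_mul_of_natDegree_le _ _ (hD k i j) (Nat.le_add_left _ _)]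
      exact Finset.sum_congr rfl fun b _ => by rw [coeff_map, hsw]
    have h : d0 U w i j = ∑ k, (∑ b ∈ Finset.range (D + 1),
        cst A (U i ⊓ U j) ((r k).1.coeff (m + D - b)) * d0 U (sw k b) i j) +
        (r' inf_le_right ((ψ I (hU j) (ω j)).coeff (m + D)) -
          r' inf_le_left ((ψ I (hU i) (ω i)).coeff (m + D))) := by
      have h0 : (ψ₂ I h2 i j (ζ i j)).coeff (m + D) = d0 U w i j := by
        rw [hζ, coeff_monomial, if_pos rfl]
      rw [← h0, hr i j, map_add, coeff_add, map_sum, finset_sum_coeff, ψ₂_d0 I h2 hU, coeff_sub,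
        coeff_map, coeff_map, Finset.sum_congr rfl fun k _ => e k]
    rw [h]
    simp only [w', d0, map_add, map_sum, map_mul, r'_cst, mul_sub, Finset.sum_sub_distrib]
    abel
  · refine add_mem (sum_mem fun k _ => sum_mem fun b hb => Ideal.mul_mem_right _ _ ?_) ?_
    · refine Ideal.mem_map_of_mem _ (Ideal.pow_le_pow_right ?_ ((mem_reesAlgebra_iff _ _).1 (r k).2 _))
      have := Finset.mem_range_succ_iff.1 hb
      omega
    · exact Ideal.map_mono (Ideal.pow_le_pow_right (Nat.le_add_right _ _))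
        (coeff_ψ_mem I (hU i) (ω i) (m + D))

end Groth.Agent.H34.ZarConn.Strict
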